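import Cfsg.Agent.H30.FiE.Down
import Cfsg.Agent.H30.GraphFi24A
import Cfsg.Agent.H601.K4.Defs

/-!
# `Fi24'` has five irreducible characters of odd degree (helper593)

The degrees are 1, 57477, 1264015025, 3208653525 and 35873145.
-/

set_option autoImplicit false

namespace Cfsg.Agent.H593.K4

open Cfsg Cfsg.Agent.Characters.Core Cfsg.Agent.H601.K4

universe u

/-- five odd degrees -/
theorem odd5_of_degrees {S : Type u} [Group S] (d : Fin 5 → ℕ) (hd : Function.Injective d) (ho : ∀ i, ¬ 2 ∣ d i)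
    (h : ∀ i, ∃ χ : S → ℂ, IsIrrCharacter S χ ∧ charDegree χ = d i) : Odd5 S := by
  choose χ h1 h2 using h
  refine ⟨χ, fun i j hij => hd ?_, fun i => ⟨h1 i, by rw [h2 i]; exact ho i⟩⟩
  rw [← h2 i, ← h2 j, hij]

/-- **Row (A) of S4947 for `Fi24'`.** -/
theorem odd5_fi24 {S : Type u} [Group S] (h : Spor.IsoFi24' S) : Odd5 S := by
  obtain ⟨e⟩ := h
  refine odd5_of_degrees ![1, 57477, 1264015025, 3208653525, 35873145] (by decide) (by decide) fun i => ?_
  have key : ∀ D : ℕ, (∃ θ : IrrCharacter Spor.Fi24', charDegree (θ : Spor.Fi24' → ℂ) = D) →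
      ∃ χ : S → ℂ, IsIrrCharacter S χ ∧ charDegree χ = D := by
    rintro D ⟨θ, hθ⟩
    refine ⟨fun s => (θ : Spor.Fi24' → ℂ) (e s), isIrr_comp e.toMonoidHom e.surjective θ.2, ?_⟩
    rw [← hθ]
    show ⌊((θ : Spor.Fi24' → ℂ) (e 1)).re⌋₊ = ⌊((θ : Spor.Fi24' → ℂ) 1).re⌋₊
    rw [map_one]
  fin_cases i
  · refine key 1 ⟨⟨fun _ => 1, Cfsg.Agent.Blocks.Basic.isIrrCharacter_one⟩, ?_⟩
    exact Cfsg.Agent.Blocks.Basic.charDegree_of_eq (by simp)
  · exact key _ Cfsg.Agent.H30.GraphFi24.exists_deg.1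
  · exact key _ Cfsg.Agent.H30.FiE.Down.exists_down_d
  · exact key _ Cfsg.Agent.H30.FiE.Down.exists_down_e
  · exact key _ Cfsg.Agent.H30.FiE.Down.exists_down_f

end Cfsg.Agent.H593.K4
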