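import Cfsg.Agent.H30.FiE.Down
import Cfsg.Agent.H593.K4.SphRat
import Cfsg.Agent.H597.Degrees
import Cfsg.Agent.H740.K4.Bridge
import Cfsg.Agent.H740.K4.Equiv
import Cfsg.Agent.H968.Imc.RankThreeRat
import Cfsg.Agent.H30.GraphFi24A

/-!
# `Fi24'` has five good characters (helper593)

The characters of degrees 1, 57477, 1264015025, 3208653525 and 35873145 are rational valued. The last three come from
the rational eigenfunctions on the commuting pairs of transpositions of `Cfsg.Agent.H30.FiE`.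
-/

set_option autoImplicit false
set_option maxRecDepth 100000
set_option linter.all false

namespace Cfsg.Agent.H30.FiE

open Cfsg Cfsg.Agent.Lib.PermNet Cfsg.Agent.Lib.PermNetPt Cfsg.Agent.Lib.PermNetOrbit
open Cfsg.Agent.Fischer.Fi24RepOrb (UG)
open Cfsg.Spor (Fi24)
open Cfsg.Agent.H30.PairFn (Ctx)
open Cfsg.Agent.H30.PairFn.Ctx (Ent Orbs IsFn KInv hf rs fn)
open Cfsg.Agent.H593.K4 (exists_deg_rat)
open scoped ComplexConjugate

attribute [local instance] Classical.propDecidable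

theorem rat_fn (w : ℕ → ℂ) (h : ∀ k, ∃ q : ℚ, w k = q) (c d : ℕ) : ∃ q : ℚ, fn X X.cl w c d = q := by
  by_cases hc : X.com c d
  · rw [Ctx.fn_of hc]
    exact h _
  · exact ⟨0, by rw [show fn X X.cl w c d = 0 from if_neg hc, Rat.cast_zero]⟩

/-- the degree 1264015025 -/
theorem exists_d_rat : ∃ χ : IrrCharacter Fi24, charDegree (χ : Fi24 → ℂ) = 1264015025 ∧
    ∀ g, ∃ q : ℚ, (χ : Fi24 → ℂ) g = q := by
  have : Finite Fi24 := Cfsg.Agent.R08.FiTwentyFour.finite_Fi24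
  set w : ℕ → ℂ := fun k => ((vd k : ℚ) : ℂ) with hw
  have hv := orbs.isFn w
  have hab := (chkCl_spec cl_02)
  refine exists_deg_rat (X := X) (P := True) (τ := (-18)) (ω := 2808) (v := fn X X.cl w) hv ?_ ?_ ?_ (fun _ => vd_C) ?_
    (n2 := 9720970056) (s2 := 17496/2275) ?_ sum_one ?_
  · show fn X X.cl w 0 136 = 1
    rw [Ctx.fn_of hab.1, hab.2, hw]
    simp only [vd_3510]
    norm_num
  · exact rat_fn _ fun k => ⟨_, rfl⟩
  · intro c d h
    rw [A1_val (orbs.kInv w) (fun x y h => if_pos h) h, vd_A (cl_mem h), Ctx.fn_of h]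
  · intro ψ hψ hK h1 h2 c d h
    obtain ⟨β, hβ⟩ := orbs.exists_beta hψ hK
    have k0 := h2 trivial _ _ (chkCl_spec cl_02).1
    have k3 := h2 trivial _ _ (chkCl_spec cl_10).1
    have k7 := h2 trivial _ _ (chkCl_spec cl_20).1
    have k10 := h2 trivial _ _ (chkCl_spec cl_30).1
    rw [CC_0 hψ hK hβ, hβ _ _ (chkCl_spec cl_02).1, (chkCl_spec cl_02).2] at k0
    rw [CC_3 hψ hK hβ, hβ _ _ (chkCl_spec cl_10).1, (chkCl_spec cl_10).2] at k3
    rw [CC_7 hψ hK hβ, hβ _ _ (chkCl_spec cl_20).1, (chkCl_spec cl_20).2] at k7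
    rw [CC_10 hψ hK hβ, hβ _ _ (chkCl_spec cl_30).1, (chkCl_spec cl_30).2] at k10
    rw [hβ c d h, vd_lin (fun k hk => eqA hK hβ h1 hk) (by linear_combination k0) (by linear_combination k3)
      (by linear_combination k7) (by linear_combination k10) (cl_mem h), Ctx.fn_of h]
    show _ = ψ 0 136 * _
    rw [hβ _ _ hab.1, hab.2]
  · have e : ∀ x y, fn X X.cl w x y * conj (fn X X.cl w x y) = fn X X.cl (fun k => ((vd k ^ 2 : ℚ) : ℂ)) x y := by
      intro x y
      by_cases h : X.com x y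
      · rw [Ctx.fn_of h, Ctx.fn_of h, hw]
        simp only [map_ratCast]
        push_cast
        ring
      · have e1 : fn X X.cl w x y = 0 := if_neg h
        have e2 : fn X X.cl (fun k => ((vd k ^ 2 : ℚ) : ℂ)) x y = 0 := if_neg h
        rw [e1, e2, zero_mul]
    simp only [e]
    rw [sum_fn]
    simp only [vd_3510, vd_693, vd_351, vd_4180, vd_8126, vd_12063, vd_16063, vd_16108, vd_16000, vd_24036, vd_36360, vd_36072, vd_36036]
    norm_num
  · norm_num

/-- the degree 3208653525 -/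
theorem exists_e_rat : ∃ χ : IrrCharacter Fi24, charDegree (χ : Fi24 → ℂ) = 3208653525 ∧
    ∀ g, ∃ q : ℚ, (χ : Fi24 → ℂ) g = q := by
  have : Finite Fi24 := Cfsg.Agent.R08.FiTwentyFour.finite_Fi24
  set w : ℕ → ℂ := fun k => ((ve k : ℚ) : ℂ) with hw
  have hv := orbs.isFn w
  have hab := (chkCl_spec cl_02)
  refine exists_deg_rat (X := X) (P := True) (τ := (-18)) (ω := 3672) (v := fn X X.cl w) hv ?_ ?_ ?_ (fun _ => ve_C) ?_
    (n2 := 9720970056) (s2 := 5832/1925) ?_ sum_one ?_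
  · show fn X X.cl w 0 136 = 1
    rw [Ctx.fn_of hab.1, hab.2, hw]
    simp only [ve_3510]
    norm_num
  · exact rat_fn _ fun k => ⟨_, rfl⟩
  · intro c d h
    rw [A1_val (orbs.kInv w) (fun x y h => if_pos h) h, ve_A (cl_mem h), Ctx.fn_of h]
  · intro ψ hψ hK h1 h2 c d h
    obtain ⟨β, hβ⟩ := orbs.exists_beta hψ hK
    have k0 := h2 trivial _ _ (chkCl_spec cl_02).1
    have k3 := h2 trivial _ _ (chkCl_spec cl_10).1
    have k7 := h2 trivial _ _ (chkCl_spec cl_20).1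
    have k10 := h2 trivial _ _ (chkCl_spec cl_30).1
    rw [CC_0 hψ hK hβ, hβ _ _ (chkCl_spec cl_02).1, (chkCl_spec cl_02).2] at k0
    rw [CC_3 hψ hK hβ, hβ _ _ (chkCl_spec cl_10).1, (chkCl_spec cl_10).2] at k3
    rw [CC_7 hψ hK hβ, hβ _ _ (chkCl_spec cl_20).1, (chkCl_spec cl_20).2] at k7
    rw [CC_10 hψ hK hβ, hβ _ _ (chkCl_spec cl_30).1, (chkCl_spec cl_30).2] at k10
    rw [hβ c d h, ve_lin (fun k hk => eqA hK hβ h1 hk) (by linear_combination k0) (by linear_combination k3)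
      (by linear_combination k7) (by linear_combination k10) (cl_mem h), Ctx.fn_of h]
    show _ = ψ 0 136 * _
    rw [hβ _ _ hab.1, hab.2]
  · have e : ∀ x y, fn X X.cl w x y * conj (fn X X.cl w x y) = fn X X.cl (fun k => ((ve k ^ 2 : ℚ) : ℂ)) x y := by
      intro x y
      by_cases h : X.com x y
      · rw [Ctx.fn_of h, Ctx.fn_of h, hw]
        simp only [map_ratCast]
        push_cast
        ring
      · have e1 : fn X X.cl w x y = 0 := if_neg h
        have e2 : fn X X.cl (fun k => ((ve k ^ 2 : ℚ) : ℂ)) x y = 0 := if_neg h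
        rw [e1, e2, zero_mul]
    simp only [e]
    rw [sum_fn]
    simp only [ve_3510, ve_693, ve_351, ve_4180, ve_8126, ve_12063, ve_16063, ve_16108, ve_16000, ve_24036, ve_36360, ve_36072, ve_36036]
    norm_num
  · norm_num

/-- the degree 35873145 -/
theorem exists_f_rat : ∃ χ : IrrCharacter Fi24, charDegree (χ : Fi24 → ℂ) = 35873145 ∧
    ∀ g, ∃ q : ℚ, (χ : Fi24 → ℂ) g = q := by
  have : Finite Fi24 := Cfsg.Agent.R08.FiTwentyFour.finite_Fi24
  set w : ℕ → ℂ := fun k => ((vf k : ℚ) : ℂ) with hw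
  have hv := orbs.isFn w
  have hab := (chkCl_spec cl_02)
  refine exists_deg_rat (X := X) (P := True) (τ := (-18)) (ω := 8856) (v := fn X X.cl w) hv ?_ ?_ ?_ (fun _ => vf_C) ?_
    (n2 := 9720970056) (s2 := 14904/55) ?_ sum_one ?_
  · show fn X X.cl w 0 136 = 1
    rw [Ctx.fn_of hab.1, hab.2, hw]
    simp only [vf_3510]
    norm_num
  · exact rat_fn _ fun k => ⟨_, rfl⟩
  · intro c d h
    rw [A1_val (orbs.kInv w) (fun x y h => if_pos h) h, vf_A (cl_mem h), Ctx.fn_of h]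
  · intro ψ hψ hK h1 h2 c d h
    obtain ⟨β, hβ⟩ := orbs.exists_beta hψ hK
    have k0 := h2 trivial _ _ (chkCl_spec cl_02).1
    have k3 := h2 trivial _ _ (chkCl_spec cl_10).1
    have k7 := h2 trivial _ _ (chkCl_spec cl_20).1
    have k10 := h2 trivial _ _ (chkCl_spec cl_30).1
    rw [CC_0 hψ hK hβ, hβ _ _ (chkCl_spec cl_02).1, (chkCl_spec cl_02).2] at k0
    rw [CC_3 hψ hK hβ, hβ _ _ (chkCl_spec cl_10).1, (chkCl_spec cl_10).2] at k3
    rw [CC_7 hψ hK hβ, hβ _ _ (chkCl_spec cl_20).1, (chkCl_spec cl_20).2] at k7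
    rw [CC_10 hψ hK hβ, hβ _ _ (chkCl_spec cl_30).1, (chkCl_spec cl_30).2] at k10
    rw [hβ c d h, vf_lin (fun k hk => eqA hK hβ h1 hk) (by linear_combination k0) (by linear_combination k3)
      (by linear_combination k7) (by linear_combination k10) (cl_mem h), Ctx.fn_of h]
    show _ = ψ 0 136 * _
    rw [hβ _ _ hab.1, hab.2]
  · have e : ∀ x y, fn X X.cl w x y * conj (fn X X.cl w x y) = fn X X.cl (fun k => ((vf k ^ 2 : ℚ) : ℂ)) x y := by
      intro x y
      by_cases h : X.com x y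
      · rw [Ctx.fn_of h, Ctx.fn_of h, hw]
        simp only [map_ratCast]
        push_cast
        ring
      · have e1 : fn X X.cl w x y = 0 := if_neg h
        have e2 : fn X X.cl (fun k => ((vf k ^ 2 : ℚ) : ℂ)) x y = 0 := if_neg h
        rw [e1, e2, zero_mul]
    simp only [e]
    rw [sum_fn]
    simp only [vf_3510, vf_693, vf_351, vf_4180, vf_8126, vf_12063, vf_16063, vf_16108, vf_16000, vf_24036, vf_36360, vf_36072, vf_36036]
    norm_num
  · norm_num

end Cfsg.Agent.H30.FiE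

namespace Cfsg.Agent.H593.K4

open Cfsg Cfsg.Agent.Characters.Core Cfsg.Agent.H601.K4
open Cfsg.Spor (Fi24)

universe u

local notation "L" => Cfsg.Agent.R08.FiTwentyFour.L

/-- descent of a rational character of odd degree -/
theorem good_down {D : ℕ} (h : ∃ χ : IrrCharacter Fi24, charDegree (χ : Fi24 → ℂ) = D ∧
    ∀ g, ∃ q : ℚ, (χ : Fi24 → ℂ) g = q) (hD : ¬ 2 ∣ D) :
    ∃ θ : Spor.Fi24' → ℂ, Good θ ∧ charDegree θ = D := by
  have hfin : Finite Fi24 := Cfsg.Agent.R08.FiTwentyFour.finite_Fi24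
  have hfin' : Finite Spor.Fi24' := H30.GraphFi24.finite_Fi24'
  have := Fintype.ofFinite Fi24
  obtain ⟨χ, hχ, hq⟩ := h
  have h1 := Cfsg.Agent.H597.Degrees.isIrr_restrict_of_coprime (commutator Fi24) χ.2 (by
    rw [Cfsg.Agent.R08.FiTwentyFour.index_commutator, hχ]
    exact (Nat.Prime.coprime_iff_not_dvd Nat.prime_two).2 hD)
  have h2 : charDegree (fun n : Spor.Fi24' => (χ : Fi24 → ℂ) n) = D := by
    rw [← hχ]
    show ⌊((χ : Fi24 → ℂ) ((1 : Spor.Fi24') : Fi24)).re⌋₊ = ⌊((χ : Fi24 → ℂ) 1).re⌋₊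
    rfl
  exact ⟨_, H740.K4.good_of_rat h1 (fun g => hq g) (by rw [h2]; exact Nat.not_even_iff_odd.1 fun h => hD h.two_dvd), h2⟩

/-- the character of degree 57477 -/
theorem exists_good_57477 : ∃ χ : Spor.Fi24' → ℂ, Good χ ∧ charDegree χ = 57477 := by
  classical
  have := H30.GraphFi24.finite_Fi24'
  let _ := H30.GraphFi24.act
  obtain ⟨χ₁, χ₂, h1, h2, h3, h4⟩ := H968.Imc.exists_pair H30.GraphFi24.r3
    (fun a b => (Nat.beq a 57477 && Nat.beq b 249458) || (Nat.beq a 249458 && Nat.beq b 57477)) (by decide +kernel)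
  have key : ∀ a : IrrCharacter Spor.Fi24', (∀ g, ∃ z : ℤ, (a : Spor.Fi24' → ℂ) g = z) →
      charDegree (a : Spor.Fi24' → ℂ) = 57477 → ∃ χ : Spor.Fi24' → ℂ, Good χ ∧ charDegree χ = 57477 :=
    fun a ha hd => ⟨a, H740.K4.good_of_rat a.2 (fun g => by
      obtain ⟨z, hz⟩ := ha g
      exact ⟨z, by rw [hz]; push_cast; rfl⟩) (by rw [hd]; decide), hd⟩
  simp only [Bool.or_eq_true, Bool.and_eq_true, Nat.beq_eq] at h4
  rcases h4 with ⟨h4, h5⟩ | ⟨h4, h5⟩
  · exact key χ₁ h1 h4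
  · exact key χ₂ h2 h5

/-- five good degrees -/
theorem good5_of_degrees {S : Type u} [Group S] (d : Fin 5 → ℕ) (hd : Function.Injective d)
    (h : ∀ i, ∃ χ : S → ℂ, Good χ ∧ charDegree χ = d i) : Good5 S := by
  choose χ h1 h2 using h
  refine ⟨χ, fun i j hij => hd ?_, h1⟩
  rw [← h2 i, ← h2 j, hij]

/-- **Row (A) of S4547 for `Fi24'`.** -/
theorem good5_fi24 {S : Type u} [Group S] (h : Spor.IsoFi24' S) : Good5 S := by
  have hfin' : Finite Spor.Fi24' := H30.GraphFi24.finite_Fi24'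
  obtain ⟨e⟩ := h
  refine good5_of_degrees ![1, 57477, 1264015025, 3208653525, 35873145] (by decide) fun i => ?_
  have key : ∀ D : ℕ, (∃ θ : Spor.Fi24' → ℂ, Good θ ∧ charDegree θ = D) →
      ∃ χ : S → ℂ, Good χ ∧ charDegree χ = D := by
    rintro D ⟨θ, hg, hθ⟩
    refine ⟨fun s => θ (e s), H740.K4.good_comp e hg, ?_⟩
    rw [← hθ]
    show ⌊(θ (e 1)).re⌋₊ = ⌊(θ 1).re⌋₊
    rw [map_one]
  fin_cases i
  · have h1 : charDegree (fun _ : Spor.Fi24' => (1 : ℂ)) = 1 := Cfsg.Agent.Blocks.Basic.charDegree_of_eq (by simp)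
    exact key 1 ⟨_, H740.K4.good_of_rat Cfsg.Agent.Blocks.Basic.isIrrCharacter_one (fun _ => ⟨1, by simp⟩)
      (by rw [h1]; decide), h1⟩
  · exact key _ exists_good_57477
  · exact key _ (good_down Cfsg.Agent.H30.FiE.exists_d_rat (by decide))
  · exact key _ (good_down Cfsg.Agent.H30.FiE.exists_e_rat (by decide))
  · exact key _ (good_down Cfsg.Agent.H30.FiE.exists_f_rat (by decide))

end Cfsg.Agent.H593.K4
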